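import Cfsg.Agent.Lib.FrobFree.NormalElement
import Cfsg.Agent.Lib.Frobenius.Basic
import Cfsg.Agent.Lib.NilGroup.Basic

/-!
Modules for groups with a fixed-point-free nilpotent normal subgroup are free over the complement (helper78).

* `free_abelian`: the case of an abelian kernel with invertible order
* `free_of_fpf`: nilpotent kernel of invertible order
* `exists_coprime_part`: reduction to a kernel of order prime to the characteristic
-/

set_option autoImplicit false
set_option linter.style.haveILetI false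

namespace Cfsg.Agent.FrobFree

theorem free_abelian {k H V Q : Type*} [Field k] [AddCommGroup V] [Module k V] [Group H] [Fintype H]
    [DecidableEq H] [CommGroup Q] [Finite Q] [MulDistribMulAction H Q] (hQ : (Nat.card Q : k) ≠ 0)
    (σ : Q →* Module.End k V) (τ : H →* Module.End k V)
    (heq : ∀ h q v, τ h (σ q v) = σ (h • q) (τ h v))
    (hsurj : ∀ h : H, h ≠ 1 → ∀ q : Q, ∃ p : Q, (h • p) * p⁻¹ = q)
    (hnofix : ∀ v : V, (∀ q, σ q v = v) → v = 0) : HasFree τ := by
  classical
  haveI : NeZero (Nat.card Q : k) := ⟨hQ⟩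
  let φ : MonoidAlgebra k Q →ₐ[k] Module.End k V := MonoidAlgebra.lift k (Module.End k V) Q σ
  let I : Ideal (MonoidAlgebra k Q) := RingHom.ker φ.toRingHom
  let α : H → (MonoidAlgebra k Q ≃ₐ[k] MonoidAlgebra k Q) := fun h =>
    MonoidAlgebra.domCongr k k (MulDistribMulAction.toMulEquiv Q h)
  have hα : ∀ h q c, α h (MonoidAlgebra.single q c) = MonoidAlgebra.single (h • q) c := fun h q c =>
    MonoidAlgebra.domCongr_single _ q c
  have hφs : ∀ q c, φ (MonoidAlgebra.single q c) = c • σ q := fun q c => MonoidAlgebra.lift_single σ q c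
  have hφα : ∀ h r v, τ h (φ r v) = φ (α h r) (τ h v) := by
    intro h r v
    induction r using MonoidAlgebra.induction_linear with
    | zero => simp
    | single q c => rw [hα, hφs, hφs, LinearMap.smul_apply, LinearMap.smul_apply, map_smul, heq]
    | add r r' h1 h2 => simp only [map_add, LinearMap.add_apply, h1, h2]
  have hinv : ∀ h x, τ h⁻¹ (τ h x) = x := fun h x => by
    rw [← Module.End.mul_apply, ← map_mul, inv_mul_cancel, map_one]; rfl
  have hI : ∀ h r, r ∈ I → α h r ∈ I := by
    intro h r hr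
    rw [RingHom.mem_ker] at hr ⊢
    refine LinearMap.ext fun v => ?_
    have hv : τ h (τ h⁻¹ v) = v := by simpa using hinv h⁻¹ v
    rw [← hv]
    show φ (α h r) (τ h (τ h⁻¹ v)) = 0
    rw [← hφα, show φ r = 0 from hr, LinearMap.zero_apply, map_zero]
  let φ₀ : MonoidAlgebra k Q ⧸ I →+* Module.End k V := RingHom.kerLift φ.toRingHom
  let π := Ideal.Quotient.mk I
  let act : H → (MonoidAlgebra k Q ⧸ I →+* MonoidAlgebra k Q ⧸ I) := fun h =>
    Ideal.quotientMap I (α h : MonoidAlgebra k Q →+* MonoidAlgebra k Q) fun r hr => hI h r hr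
  have hact : ∀ h r, act h (π r) = π (α h r) := fun h r => rfl
  have hαmul : ∀ g h r, α (g * h) r = α g (α h r) := by
    intro g h r
    induction r using MonoidAlgebra.induction_linear with
    | zero => simp
    | single q c => rw [hα, hα, hα, mul_smul]
    | add r r' h1 h2 => rw [map_add, h1, h2, map_add, map_add]
  have hαone : ∀ r, α 1 r = r := by
    intro r
    induction r using MonoidAlgebra.induction_linear with
    | zero => simp
    | single q c => rw [hα, one_smul]
    | add r r' h1 h2 => rw [map_add, h1, h2]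
  letI : MulSemiringAction H (MonoidAlgebra k Q ⧸ I) :=
    { smul := fun h x => act h x
      one_smul := fun x => by
        obtain ⟨r, rfl⟩ := Ideal.Quotient.mk_surjective x
        show act 1 (π r) = π r
        rw [hact, hαone]
      mul_smul := fun g h x => by
        obtain ⟨r, rfl⟩ := Ideal.Quotient.mk_surjective x
        show act (g * h) (π r) = act g (act h (π r))
        rw [hact, hact, hact, hαmul]
      smul_zero := fun h => map_zero (act h)
      smul_add := fun h => map_add (act h)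
      smul_one := fun h => map_one (act h)
      smul_mul := fun h => map_mul (act h) }
  haveI : IsArtinianRing (MonoidAlgebra k Q ⧸ I) := inferInstance
  haveI : IsReduced (MonoidAlgebra k Q ⧸ I) := by
    haveI := RingHom.isSemisimpleRing_of_surjective π Ideal.Quotient.mk_surjective
    infer_instance
  let ι : Q → MonoidAlgebra k Q ⧸ I := fun q => π (MonoidAlgebra.single q 1)
  have hιmul : ∀ q p, ι (q * p) = ι q * ι p := fun q p => by
    rw [← map_mul, MonoidAlgebra.single_mul_single, one_mul]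
  have hι1 : ι 1 = 1 := map_one π
  have hισ : ∀ q, φ₀ (ι q) = σ q := fun q => by
    show φ (MonoidAlgebra.single q 1) = σ q
    rw [hφs, one_smul]
  have hsmulι : ∀ (h : H) (q : Q), h • ι q = ι (h • q) := fun h q => by
    show act h (π _) = _
    rw [hact, hα]
  have hfree : ∀ h : H, h ≠ 1 → ∀ m : Ideal (MonoidAlgebra k Q ⧸ I), m.IsMaximal → ∃ r, h • r - r ∉ m := by
    intro h hh m hm
    by_contra hcon
    push Not at hcon
    have hall : ∀ q : Q, ι q - 1 ∈ m := by
      intro q
      obtain ⟨p, hp⟩ := hsurj h hh q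
      have := m.mul_mem_right (ι p⁻¹) (hcon (ι p))
      rw [hsmulι, sub_mul, ← hιmul, ← hιmul, hp, mul_inv_cancel, hι1] at this
      exact this
    obtain ⟨e, he⟩ := Ideal.pi_quotient_surjective
      (I := fun m' : MaximalSpectrum (MonoidAlgebra k Q ⧸ I) => m'.asIdeal)
      (fun m₁ m₂ hne => Ideal.isCoprime_iff_sup_eq.mpr
        (m₁.isMaximal.coprime_of_ne m₂.isMaximal fun h => hne (MaximalSpectrum.ext h)))
      (fun m' => if m'.asIdeal = m then 1 else 0)
    have hem : e ∉ m := by
      intro h1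
      have h2 := he ⟨m, hm⟩
      rw [if_pos rfl, Ideal.Quotient.eq_zero_iff_mem.mpr h1] at h2
      haveI := hm
      exact one_ne_zero h2.symm
    have hze : ∀ q, ι q * e = e := by
      intro q
      refine sub_eq_zero.mp (IsReduced.eq_zero _ (mem_nilradical.mp ?_))
      rw [nilradical_eq_sInf, Submodule.mem_sInf]
      intro P₀ hP
      obtain ⟨P, rfl⟩ : ∃ P : Ideal (MonoidAlgebra k Q ⧸ I), P = P₀ := ⟨P₀, rfl⟩
      have hP' : P.IsMaximal := (IsArtinianRing.isPrime_iff_isMaximal P).mp hP
      have e1 : ι q * e - e = (ι q - 1) * e := by rw [sub_mul, one_mul]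
      rw [e1]
      by_cases hPm : P = m
      · exact P.mul_mem_right _ (hPm ▸ hall q)
      · refine P.mul_mem_left _ ?_
        have h2 := he ⟨P, hP'⟩
        rw [if_neg hPm, Ideal.Quotient.eq_zero_iff_mem] at h2
        exact h2
    have hinj : Function.Injective φ₀ := RingHom.kerLift_injective φ.toRingHom
    have h0 : φ₀ e = 0 := LinearMap.ext fun v => hnofix _ fun q => by
      rw [← hισ q, ← Module.End.mul_apply, ← map_mul, hze]
    exact hem (by rw [(map_eq_zero_iff φ₀ hinj).mp h0]; exact m.zero_mem)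
  obtain ⟨a, ha⟩ := exists_normal_element hfree
  refine free_of_normal φ₀ τ (fun h r v => ?_) ha
  obtain ⟨r, rfl⟩ := Ideal.Quotient.mk_surjective r
  show τ h (φ r v) = φ₀ (act h (π r)) (τ h v)
  rw [hact]
  exact hφα h r v

/-- Restriction of an action to an invariant subspace. -/
def subRep {k G V : Type*} [Field k] [AddCommGroup V] [Module k V] [Monoid G] (τ : G →* Module.End k V)
    (U : Submodule k V) (hU : ∀ g, ∀ v ∈ U, τ g v ∈ U) : G →* Module.End k U where
  toFun g := (τ g).restrict (hU g)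
  map_one' := LinearMap.ext fun v => Subtype.ext (by simp [LinearMap.coe_restrict_apply])
  map_mul' g g' := LinearMap.ext fun v => Subtype.ext (by simp [LinearMap.coe_restrict_apply])

theorem coe_subRep {k G V : Type*} [Field k] [AddCommGroup V] [Module k V] [Monoid G]
    (τ : G →* Module.End k V) (U : Submodule k V) (hU : ∀ g, ∀ v ∈ U, τ g v ∈ U) (g : G) (v : U) :
    ((subRep τ U hU g v : U) : V) = τ g v := rfl

theorem hasFree_split {k H V : Type*} [Field k] [AddCommGroup V] [Module k V] [Group H] [Fintype H]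
    (τ : H →* Module.End k V) (e : Module.End k V) (hee : ∀ v, e (e v) = e v)
    (hcomm : ∀ h v, τ h (e v) = e (τ h v))
    (h1 : HasFree (subRep τ (LinearMap.range e) (fun h v hv => by
      obtain ⟨w, rfl⟩ := hv; exact ⟨τ h w, (hcomm h w).symm⟩)))
    (h2 : HasFree (subRep τ (LinearMap.ker e) (fun h v hv => by
      rw [LinearMap.mem_ker] at hv ⊢; rw [← hcomm, hv, map_zero]))) : HasFree τ := by
  obtain ⟨W₁, hW₁⟩ := h1
  obtain ⟨W₂, hW₂⟩ := h2
  refine ⟨W₁.map (LinearMap.range e).subtype ⊔ W₂.map (LinearMap.ker e).subtype, fun v => ?_⟩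
  obtain ⟨f₁, ⟨hf₁, hs₁⟩, hu₁⟩ := hW₁ ⟨e v, ⟨v, rfl⟩⟩
  obtain ⟨f₂, ⟨hf₂, hs₂⟩, hu₂⟩ := hW₂ ⟨v - e v, by rw [LinearMap.mem_ker, map_sub, hee, sub_self]⟩
  refine ⟨fun c => (f₁ c : V) + f₂ c, ⟨fun c => Submodule.add_mem_sup
    (Submodule.mem_map_of_mem (hf₁ c)) (Submodule.mem_map_of_mem (hf₂ c)), ?_⟩, ?_⟩
  · have e1 := congrArg Subtype.val hs₁
    have e2 := congrArg Subtype.val hs₂
    simp only [Submodule.coe_sum, coe_subRep] at e1 e2
    simp only [map_add, Finset.sum_add_distrib, e1, e2, add_sub_cancel]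
  · rintro f ⟨hfW, hfv⟩
    choose a ha b hb hab using fun c => Submodule.mem_sup.mp (hfW c)
    choose a' ha' haa using ha
    choose b' hb' hbb using hb
    have hea : ∀ c, e (a c) = a c := fun c => by
      obtain ⟨w, hw⟩ := (a' c).2
      rw [← haa c]; show e (a' c : V) = a' c; rw [← hw, hee]
    have heb : ∀ c, e (b c) = 0 := fun c => by
      rw [← hbb c]; exact LinearMap.mem_ker.mp (b' c).2
    have hsa : ∑ c, τ c (a c) = e v := by
      rw [← hfv, map_sum]
      refine Finset.sum_congr rfl fun c _ => ?_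
      rw [← hcomm, ← hab c, map_add e, hea, heb, add_zero]
    have h1' : a' = f₁ := hu₁ a' ⟨ha', Subtype.ext (by
      simp only [Submodule.coe_sum, coe_subRep]
      rw [← hsa]
      exact Finset.sum_congr rfl fun c _ => congrArg (τ c) (haa c))⟩
    have h2' : b' = f₂ := hu₂ b' ⟨hb', Subtype.ext (by
      simp only [Submodule.coe_sum, coe_subRep]
      rw [← hsa, ← hfv, ← Finset.sum_sub_distrib]
      refine Finset.sum_congr rfl fun c _ => ?_
      rw [← hab c, map_add (τ c), add_sub_cancel_left]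
      exact congrArg (τ c) (hbb c))⟩
    funext c
    rw [← hab c, ← haa c, ← hbb c, ← h1', ← h2']
    rfl

theorem hasFree_of_subsingleton {k H V : Type*} [Field k] [AddCommGroup V] [Module k V] [Group H] [Fintype H]
    [Subsingleton V] (τ : H →* Module.End k V) : HasFree τ :=
  ⟨⊥, fun v => ⟨fun _ => 0, ⟨fun _ => Submodule.zero_mem _, Subsingleton.elim _ _⟩,
    fun f _ => Subsingleton.elim _ _⟩⟩

universe uv

/-- Nilpotent kernel of invertible order acting without fixed vectors. -/
theorem free_of_fpf {k : Type*} [Field k] {A : Type*} [Group A] [Finite A]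
    (F : Subgroup A) [F.Normal] (hnil : Group.IsNilpotent F) (hF : (Nat.card F : k) ≠ 0)
    (Hc : Subgroup A) [Fintype Hc] (hfpf : Frobenius.FPF Hc F) :
    ∀ (n : ℕ) (V : Type uv) [AddCommGroup V] [Module k V] (ρ : A →* Module.End k V) (N : Subgroup A) [N.Normal],
      N ≤ F → Nat.card F ≤ Nat.card N + n → (∀ x ∈ N, ρ x = 1) →
      (∀ v : V, (∀ f ∈ F, ρ f v = v) → v = 0) → HasFree (ρ.comp Hc.subtype) := by
  classical
  intro n
  induction n using Nat.strong_induction_on with
  | _ n ih =>
  intro V _ _ ρ N _ hNF hn hN hfix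
  by_cases hNe : N = F
  · haveI : Subsingleton V := subsingleton_of_forall_eq 0 fun v => hfix v fun f hf => by
      rw [hN f (hNe ▸ hf)]; rfl
    exact hasFree_of_subsingleton _
  set π := QuotientGroup.mk' N
  set F' := F.map π with hF'
  haveI : F'.Normal := Subgroup.Normal.map inferInstance π (QuotientGroup.mk'_surjective N)
  haveI := hnil
  haveI : Group.IsNilpotent F' := Group.nilpotent_of_surjective (π.subgroupMap F) (π.subgroupMap_surjective F)
  haveI hF'nt : Nontrivial F' := (Subgroup.nontrivial_iff_ne_bot _).mpr fun h => hNe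
    (le_antisymm hNF fun x hx => by
      have : π x ∈ F' := Subgroup.mem_map_of_mem π hx
      rw [h, Subgroup.mem_bot] at this
      exact (QuotientGroup.eq_one_iff x).mp this)
  set Z := (Subgroup.centralizer (F' : Set (A ⧸ N))).comap π ⊓ F with hZ
  haveI : (Subgroup.centralizer (F' : Set (A ⧸ N))).Normal := Subgroup.normal_centralizer
  haveI hZn : Z.Normal := Subgroup.normal_inf_normal _ _
  have hNZ : N ≤ Z := fun x hx => ⟨by
    show π x ∈ Subgroup.centralizer _
    rw [show π x = 1 from (QuotientGroup.eq_one_iff x).mpr hx]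
    exact one_mem _, hNF hx⟩
  obtain ⟨x, hxZ, hxN⟩ : ∃ x ∈ Z, x ∉ N := by
    haveI : Nontrivial (Subgroup.center F') := (Subgroup.nontrivial_iff_ne_bot _).mpr
      (Group.IsNilpotent.center_ne_bot F')
    obtain ⟨⟨⟨q, hq⟩, hqc⟩, hq1⟩ := exists_ne (1 : Subgroup.center F')
    obtain ⟨x, hx, rfl⟩ := hq
    refine ⟨x, ⟨fun r hr => ?_, hx⟩, fun h => hq1 (Subtype.ext (Subtype.ext ((QuotientGroup.eq_one_iff x).mpr h)))⟩
    exact congrArg Subtype.val (Subgroup.mem_center_iff.mp hqc ⟨r, hr⟩)
  have hlt : Nat.card N < Nat.card Z := by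
    have hne : N ≠ Z := fun h => hxN (h ▸ hxZ)
    exact lt_of_le_of_ne (Subgroup.card_le_of_le hNZ)
      fun h => hne (Subgroup.eq_of_le_of_card_ge hNZ h.ge)
  have hZF : Z ≤ F := inf_le_right
  have hdF : ∀ d, d ∣ Nat.card F → (d : k) ≠ 0 := by
    intro d hd h0
    obtain ⟨c, hc⟩ := hd
    exact hF (by rw [hc, Nat.cast_mul, h0, zero_mul])
  have hcZ : (Nat.card Z : k) ≠ 0 := hdF _ (Subgroup.card_dvd_of_le hZF)
  cases nonempty_fintype Z
  let e : Module.End k V := (Nat.card Z : k)⁻¹ • ∑ z : Z, ρ z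
  have he : ∀ v, e v = (Nat.card Z : k)⁻¹ • ∑ z : Z, ρ z v := fun v => by simp [e]
  have hefix : ∀ v, (∀ z ∈ Z, ρ z v = v) → e v = v := by
    intro v hv
    rw [he, Finset.sum_congr rfl fun (z : Z) _ => hv z z.2, Finset.sum_const, Finset.card_univ,
      ← Nat.card_eq_fintype_card, ← Nat.cast_smul_eq_nsmul k, smul_smul, inv_mul_cancel₀ hcZ, one_smul]
  have hez : ∀ (v : V), ∀ z ∈ Z, ρ z (e v) = e v := by
    intro v z hz
    rw [he, map_smul, map_sum]
    congr 1
    refine Fintype.sum_equiv (Equiv.mulLeft (⟨z, hz⟩ : Z)) _ _ fun w => ?_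
    simp [Equiv.coe_mulLeft, map_mul]
  have hee : ∀ v, e (e v) = e v := fun v => hefix _ (hez v)
  have hecomm : ∀ a v, ρ a (e v) = e (ρ a v) := by
    intro a v
    rw [he, he, map_smul, map_sum]
    congr 1
    refine Fintype.sum_equiv (MulAut.conjNormal (H := Z) a).toEquiv _ _ fun w => ?_
    show _ = ρ ((MulAut.conjNormal a w : Z) : A) (ρ a v)
    rw [MulAut.conjNormal_apply, ← Module.End.mul_apply, ← Module.End.mul_apply, ← map_mul, ← map_mul,
      inv_mul_cancel_right]
  let τ := ρ.comp Hc.subtype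
  refine hasFree_split τ e hee (fun h v => hecomm h v) ?_ ?_
  · -- fixed part: induction
    let ρ₁ := subRep ρ (LinearMap.range e) fun a v hv => by
      obtain ⟨w, rfl⟩ := hv; exact ⟨ρ a w, (hecomm a w).symm⟩
    have hZle := Subgroup.card_le_of_le hZF
    refine ih (Nat.card F - Nat.card Z) (by omega) _ ρ₁ Z hZF
      (by have := Subgroup.card_le_of_le hZF; omega) ?_ ?_
    · intro z hz
      refine LinearMap.ext fun v => Subtype.ext ?_
      obtain ⟨w, hw⟩ := v.2
      show ρ z (v : V) = (v : V)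
      rw [← hw, hez w z hz]
    · intro v hv
      exact Subtype.ext (hfix v fun f hf => congrArg Subtype.val (hv f hf))
  · -- the abelian case
    let ρ₂ := subRep ρ (LinearMap.ker e) fun a v hv => by
      rw [LinearMap.mem_ker] at hv ⊢; rw [← hecomm, hv, map_zero]
    let ρb : A ⧸ N →* Module.End k (LinearMap.ker e) := QuotientGroup.lift N ρ₂ fun x hx => by
      rw [MonoidHom.mem_ker]
      refine LinearMap.ext fun v => Subtype.ext ?_
      show ρ x (v : V) = (v : V)
      rw [hN x hx]; rfl
    set Q := Z.map π with hQ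
    haveI : Q.Normal := Subgroup.Normal.map inferInstance π (QuotientGroup.mk'_surjective N)
    letI : CommGroup Q := { (inferInstance : Group Q) with
      mul_comm := fun p q => by
        obtain ⟨x, hx, hxe⟩ := p.2
        apply Subtype.ext
        show (p : A ⧸ N) * q = q * p
        rw [← hxe]
        refine (Subgroup.mem_centralizer_iff.mp (hx.1 : π x ∈ Subgroup.centralizer _) _ ?_).symm
        obtain ⟨y, hy, hye⟩ := q.2
        exact hye ▸ Subgroup.mem_map_of_mem π (hZF hy) }
    letI : MulDistribMulAction Hc Q :=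
      MulDistribMulAction.compHom Q ((MulAut.conjNormal (H := Q)).comp (π.comp Hc.subtype))
    have hsm : ∀ (h : Hc) (q : Q), ((h • q : Q) : A ⧸ N) = π h * q * (π h)⁻¹ := fun h q =>
      MulAut.conjNormal_apply (π h) q
    refine free_abelian (Q := Q) ?_ (ρb.comp Q.subtype) _ ?_ ?_ ?_
    · exact hdF _ ((Subgroup.card_dvd_of_surjective (π.subgroupMap Z) (π.subgroupMap_surjective Z)).trans
        (Subgroup.card_dvd_of_le hZF))
    · intro h q v
      show ρ₂ (h : A) (ρb (q : A ⧸ N) v) = ρb ((h • q : Q) : A ⧸ N) (ρ₂ (h : A) v)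
      rw [show ρ₂ (h : A) = ρb (π h) from rfl, hsm, ← Module.End.mul_apply, ← Module.End.mul_apply,
        ← map_mul, ← map_mul, inv_mul_cancel_right]
    · intro h hh q
      obtain ⟨x, hx, hxe⟩ := q.2
      let g : Z → Z := fun z => ⟨(h : A) * z * (h : A)⁻¹ * (z : A)⁻¹, mul_mem (hZn.conj_mem _ z.2 _) (inv_mem z.2)⟩
      have hg : Function.Injective g := by
        intro z w hzw
        have e1 : (h : A) * z * (h : A)⁻¹ * (z : A)⁻¹ = (h : A) * w * (h : A)⁻¹ * (w : A)⁻¹ :=
          congrArg Subtype.val hzw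
        have key := hfpf h h.2 (fun h1 => hh (Subtype.ext h1)) ((w : A)⁻¹ * z)
          (mul_mem (inv_mem (hZF w.2)) (hZF z.2)) (by
            calc (h : A) * ((w : A)⁻¹ * z)
                = ((h : A) * w * (h : A)⁻¹ * (w : A)⁻¹ * w)⁻¹ * ((h : A) * z * (h : A)⁻¹ * (z : A)⁻¹ * z) * h := by
                  group
              _ = _ := by rw [e1]; group)
        exact Subtype.ext (inv_mul_eq_one.mp key).symm
      obtain ⟨z, hz⟩ := (Finite.injective_iff_surjective.mp hg) ⟨x, hx⟩
      refine ⟨⟨π z, Subgroup.mem_map_of_mem π z.2⟩, Subtype.ext ?_⟩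
      show ((h • (⟨π z, _⟩ : Q) : Q) : A ⧸ N) * (π z)⁻¹ = (q : A ⧸ N)
      rw [hsm, ← hxe]
      show π h * π z * (π h)⁻¹ * (π z)⁻¹ = π x
      rw [← map_inv, ← map_inv, ← map_mul, ← map_mul, ← map_mul]
      exact congrArg π (congrArg Subtype.val hz)
    · intro v hv
      apply Subtype.ext
      rw [ZeroMemClass.coe_zero]
      have h1 := hefix (v : V) fun z hz => congrArg Subtype.val
        (hv ⟨π z, Subgroup.mem_map_of_mem π hz⟩)
      rw [← h1]
      exact LinearMap.mem_ker.mp v.2

/-- A `p`-group acting linearly in characteristic `p` on the vectors of an invariant subspace with a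
nonzero vector fixes one of them. -/
theorem exists_fixed_of_isPGroup {k : Type*} [Field k] {p : ℕ} [Fact p.Prime] [CharP k p] {P : Type*} [Group P]
    [Finite P] (hP : IsPGroup p P) {V : Type*} [AddCommGroup V] [Module k V] (T : P →* Module.End k V)
    (W : Submodule k V) (hW : ∀ g, ∀ v ∈ W, T g v ∈ W) {v : V} (hv : v ∈ W) (hv0 : v ≠ 0) :
    ∃ w ∈ W, w ≠ 0 ∧ ∀ g, T g w = w := by
  classical
  cases nonempty_fintype P
  have hpx : ∀ x : V, p • x = 0 := fun x => by
    rw [← Nat.cast_smul_eq_nsmul k, CharP.cast_eq_zero, zero_smul]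
  have hmod : ∀ (n : ℕ) (x : V), n • x = (n % p) • x := fun n x => by
    conv_lhs => rw [← Nat.mod_add_div n p, add_smul, mul_comm, mul_smul, hpx, smul_zero, add_zero]
  have hp0 : 0 < p := (Fact.out : p.Prime).pos
  -- the combinations of the orbit
  let comb : (P → Fin p) → V := fun c => ∑ u, (c u : ℕ) • T u v
  have hcomb : ∀ n : P → ℕ, ∑ u, n u • T u v ∈ Set.range comb := fun n =>
    ⟨fun u => ⟨n u % p, Nat.mod_lt _ hp0⟩, Finset.sum_congr rfl fun u _ => (hmod _ _).symm⟩
  let S : AddSubgroup V :=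
    { carrier := Set.range comb
      zero_mem' := by simpa using hcomb fun _ => 0
      add_mem' := by
        rintro _ _ ⟨c, rfl⟩ ⟨d, rfl⟩
        simpa [comb, add_smul, Finset.sum_add_distrib] using hcomb fun u => (c u : ℕ) + d u
      neg_mem' := by
        rintro _ ⟨c, rfl⟩
        have h := hcomb fun u => (p - 1) * (c u : ℕ)
        have e : -comb c = ∑ u, ((p - 1) * (c u : ℕ)) • T u v := by
          simp only [mul_smul, ← Finset.smul_sum]
          rw [neg_eq_iff_add_eq_zero, ← succ_nsmul' (comb c), show p - 1 + 1 = p by omega, hpx]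
        rw [e]; exact h }
  haveI : Finite S := Set.finite_coe_iff.mpr (Set.finite_range comb)
  have hPS : ∀ g, ∀ w ∈ S, T g w ∈ S := by
    rintro g _ ⟨c, rfl⟩
    have h := hcomb fun u => (c (g⁻¹ * u) : ℕ)
    have e : T g (comb c) = ∑ u, (c (g⁻¹ * u) : ℕ) • T u v := by
      simp only [comb, map_sum, map_nsmul]
      refine Fintype.sum_equiv (Equiv.mulLeft g) _ _ fun u => ?_
      simp [map_mul]
    show T g (comb c) ∈ Set.range comb
    rw [e]; exact h
  have hSW : ∀ y ∈ S, y ∈ W := by
    rintro _ ⟨c, rfl⟩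
    exact sum_mem fun u _ => nsmul_mem (hW u v hv) _
  have hvS : v ∈ S := by
    have h := hcomb fun u => if u = 1 then 1 else 0
    simp only [ite_smul, one_smul, zero_smul, Finset.sum_ite_eq', Finset.mem_univ, if_true, map_one] at h
    exact h
  letI : MulAction P S :=
    { smul := fun g w => ⟨T g w, hPS g w w.2⟩
      one_smul := fun w => Subtype.ext (by show T 1 (w : V) = w; simp)
      mul_smul := fun g g' w => Subtype.ext (by
        show T (g * g') (w : V) = T g (T g' (w : V))
        simp [map_mul]) }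
  have hdvd : p ∣ Nat.card S := by
    have ho : addOrderOf (⟨v, hvS⟩ : S) = p :=
      addOrderOf_eq_prime (Subtype.ext (hpx v)) fun h => hv0 (congrArg Subtype.val h)
    exact ho ▸ addOrderOf_dvd_natCard _
  obtain ⟨w, hw, hw0⟩ := hP.exists_fixed_point_of_prime_dvd_card_of_fixed_point S hdvd
    (a := 0) (fun g => Subtype.ext (map_zero (T g)))
  exact ⟨w, hSW w w.2, fun h => hw0 (Subtype.ext h.symm), fun g => congrArg Subtype.val (hw g)⟩

/-- In characteristic `p` the `p`-part of a nilpotent kernel can be discarded. -/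
theorem exists_coprime_part {k : Type*} [Field k] {A : Type*} [Group A] [Finite A] {V : Type*}
    [AddCommGroup V] [Module k V] (ρ : A →* Module.End k V) (F : Subgroup A) [F.Normal]
    (hnil : Group.IsNilpotent F) (hCF : ∀ v : V, (∀ f ∈ F, ρ f v = v) → v = 0) :
    ∃ R : Subgroup A, R.Normal ∧ R ≤ F ∧ Group.IsNilpotent R ∧ (Nat.card R : k) ≠ 0 ∧
      ∀ v : V, (∀ f ∈ R, ρ f v = v) → v = 0 := by
  classical
  haveI := hnil
  by_cases hF : (Nat.card F : k) ≠ 0
  · exact ⟨F, inferInstance, le_rfl, hnil, hF, hCF⟩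
  rw [not_not] at hF
  obtain ⟨p, hchar⟩ := CharP.exists k
  have hp : p.Prime := by
    rcases CharP.char_is_prime_or_zero k p with h | h
    · exact h
    · subst h
      haveI := CharP.charP_to_charZero k
      exact absurd (Nat.cast_eq_zero.mp hF) Nat.card_pos.ne'
  haveI := Fact.mk hp
  obtain ⟨P⟩ := (inferInstance : Nonempty (Sylow p F))
  haveI hPn : (P : Subgroup F).Normal :=
    Sylow.normal_of_normalizerCondition Group.normalizerCondition_of_isNilpotent P
  obtain ⟨K, hK⟩ := Subgroup.exists_right_complement'_of_coprime P.card_coprime_index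
  have hKcard : Nat.card K = (P : Subgroup F).index := hK.symm.index_eq_card.symm
  have hKp : (Nat.card K).Coprime p := by
    rw [Nat.coprime_comm, hp.coprime_iff_not_dvd, hKcard]
    exact P.not_dvd_index
  have hmem : ∀ x : F, (orderOf x).Coprime p → x ∈ K := by
    intro x hx
    obtain ⟨⟨u, w⟩, huw, -⟩ := hK.existsUnique x
    have huw' : (u : F) * w = x := huw
    have hco : (orderOf (u : F)).Coprime (orderOf (w : F)) := by
      obtain ⟨i, hi⟩ := IsPGroup.iff_orderOf.mp P.2 u
      rw [Subgroup.orderOf_coe, hi]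
      exact Nat.Coprime.pow_left i (Nat.Coprime.coprime_dvd_right (Subgroup.orderOf_dvd_natCard _ w.2) hKp.symm)
    have hc := NilGroup.commute_of_coprime hnil hco
    have hd : orderOf (u : F) ∣ orderOf x := huw' ▸ hc.orderOf_mul_eq_mul_orderOf_of_coprime hco ▸ dvd_mul_right _ _
    obtain ⟨i, hi⟩ := IsPGroup.iff_orderOf.mp P.2 u
    rw [Subgroup.orderOf_coe, hi] at hd
    have h1 : p ^ i = 1 := Nat.eq_one_of_dvd_coprimes (Nat.Coprime.pow_left i hx.symm) dvd_rfl hd
    rw [h1, orderOf_eq_one_iff] at hi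
    rw [← huw', hi, OneMemClass.coe_one, one_mul]
    exact w.2
  set R := K.map F.subtype with hR
  have hRn : R.Normal := ⟨fun r hr a => by
    obtain ⟨x, hx, rfl⟩ := hr
    refine ⟨⟨a * x * a⁻¹, Subgroup.Normal.conj_mem ‹F.Normal› _ x.2 a⟩, hmem _ ?_, rfl⟩
    rw [Subgroup.orderOf_mk, show a * (x : A) * a⁻¹ = MulAut.conj a (x : A) from rfl, MulEquiv.orderOf_eq,
      Subgroup.orderOf_coe]
    exact Nat.Coprime.coprime_dvd_left (Subgroup.orderOf_dvd_natCard _ hx) hKp⟩
  haveI : Group.IsNilpotent R := Group.nilpotent_of_mulEquiv (K.equivMapOfInjective F.subtype F.subtype_injective)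
  refine ⟨R, hRn, Subgroup.map_subtype_le K, inferInstance, ?_, fun v hv => ?_⟩
  · rw [Ne, CharP.cast_eq_zero_iff k p, hR, Subgroup.card_subtype]
    exact hp.coprime_iff_not_dvd.mp hKp.symm
  by_contra hv0
  let W : Submodule k V := ⨅ r : R, LinearMap.ker (ρ (r : A) - 1)
  have hWmem : ∀ w, w ∈ W ↔ ∀ r ∈ R, ρ r w = w := fun w => by
    simp [W, Submodule.mem_iInf, sub_eq_zero]
  obtain ⟨w, hwW, hw0, hw⟩ := exists_fixed_of_isPGroup P.2
    (ρ.comp (F.subtype.comp (P : Subgroup F).subtype)) W (fun g y hy => by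
      rw [hWmem] at hy ⊢
      intro r hr
      set a : A := ((g : F) : A)
      show ρ r (ρ a y) = ρ a y
      have := hy _ (hRn.conj_mem r hr a⁻¹)
      rw [inv_inv] at this
      calc ρ r (ρ a y) = (ρ r * ρ a) y := rfl
        _ = (ρ a * ρ (a⁻¹ * r * a)) y := by rw [← map_mul, ← map_mul]; congr 2; group
        _ = ρ a (ρ (a⁻¹ * r * a) y) := rfl
        _ = _ := by rw [this]) ((hWmem v).mpr hv) hv0
  refine hw0 (hCF w fun f hf => ?_)
  obtain ⟨⟨u, r⟩, hur, -⟩ := hK.existsUnique ⟨f, hf⟩
  have hf' : f = ((u : F) : A) * ((r : F) : A) := (congrArg Subtype.val hur).symm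
  rw [hf', map_mul, Module.End.mul_apply,
    show ρ ((r : F) : A) w = w from (hWmem w).mp hwW _ ⟨r, r.2, rfl⟩]
  exact hw u

end Cfsg.Agent.FrobFree
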