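import Cfsg.Agent.EqLemmas

/-!
Normal elements in semisimple commutative algebras with a free group action (helper78).

* `exists_normal_field`: normal basis theorem in determinant-free form
* `exists_normal_element`: an element whose translates give an invertible matrix
* `HasFree`, `free_of_normal`: semilinear modules are free over the group
-/

set_option autoImplicit false
set_option linter.style.haveILetI false

namespace Cfsg.Agent.FrobFree

open Matrix

/-- For a finite group of field automorphisms there is an element whose translates detect every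
combination of automorphisms. -/
theorem exists_normal_field {D L : Type*} [Group D] [Fintype D] [Field L] (f : D →* RingAut L)
    (hf : Function.Injective f) :
    ∃ θ : L, ∀ μ : D → L, (∀ d' : D, ∑ e, μ e * f e (f d' θ) = 0) → μ = 0 := by
  letI : MulSemiringAction D L := MulSemiringAction.compHom L f
  have hsmul : ∀ (d : D) (x : L), d • x = f d x := fun d x => rfl
  haveI : FaithfulSMul D L := ⟨fun {d e} h => hf (RingEquiv.ext fun x => h x)⟩
  let K := FixedPoints.subfield D L
  haveI : IsGalois K L := IsGalois.of_fixed_field L D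
  let b := IsGalois.normalBasis K L
  refine ⟨b 1, fun μ hμ => ?_⟩
  have hsurj := (FixedPoints.toAlgAut_bijective D L).surjective
  have hb : ∀ σ : Gal(L/K), ∃ d' : D, b σ = f d' (b 1) := by
    intro σ
    obtain ⟨d', hd'⟩ := hsurj σ
    exact ⟨d', by rw [IsGalois.normalBasis_apply, ← hd']; rfl⟩
  have hall : ∀ x : L, ∑ e, μ e * f e x = 0 := by
    intro x
    induction b.mem_span x using Submodule.span_induction with
    | mem y hy =>
      obtain ⟨σ, rfl⟩ := hy
      obtain ⟨d', hd'⟩ := hb σ
      rw [hd']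
      exact hμ d'
    | zero => simp
    | add y y' _ _ h h' => simp [mul_add, Finset.sum_add_distrib, h, h']
    | smul c y _ h =>
      have hfix : ∀ e, f e (c : L) = c := fun e => c.2 e
      simp only [Subfield.smul_def, smul_eq_mul, map_mul, hfix]
      calc ∑ e, μ e * ((c : L) * f e y) = (c : L) * ∑ e, μ e * f e y := by
            rw [Finset.mul_sum]; exact Finset.sum_congr rfl fun e _ => by ring
        _ = 0 := by rw [h, mul_zero]
  let χ : D → (L →* L) := fun e => (f e).toRingHom.toMonoidHom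
  have hχ : Function.Injective χ := fun e e' h =>
    hf (RingEquiv.ext fun x => congrArg (fun g : L →* L => g x) h)
  have hind := (linearIndependent_monoidHom L L).comp χ hχ
  rw [Fintype.linearIndependent_iff] at hind
  funext e
  refine hind μ ?_ e
  funext x
  simp only [Finset.sum_apply, Pi.smul_apply, Function.comp_apply, smul_eq_mul, Pi.zero_apply]
  exact hall x

/-- For a free action on the residue fields some element has an invertible matrix of translates. -/
theorem exists_normal_element {H R : Type*} [Group H] [Fintype H] [DecidableEq H] [CommRing R]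
    [IsArtinianRing R] [MulSemiringAction H R]
    (hfree : ∀ h : H, h ≠ 1 → ∀ m : Ideal R, m.IsMaximal → ∃ r : R, h • r - r ∉ m) :
    ∃ a : R, IsUnit (Matrix.of fun g c : H => (g * c) • a).det := by
  classical
  let sd : Setoid (MaximalSpectrum R) :=
    { r := fun m m' => ∃ h : H, ∀ r, r ∈ m'.asIdeal ↔ h • r ∈ m.asIdeal
      iseqv :=
        { refl := fun m => ⟨1, fun r => by rw [one_smul]⟩
          symm := fun {m m'} ⟨h, hh⟩ => ⟨h⁻¹, fun r => by rw [hh (h⁻¹ • r), smul_inv_smul]⟩
          trans := fun {m m' m''} ⟨h, hh⟩ ⟨h', hh'⟩ => ⟨h * h', fun r => by rw [hh' r, hh, mul_smul]⟩ } }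
  let rep : MaximalSpectrum R → MaximalSpectrum R := fun m => (Quotient.mk sd m).out
  have hrep : ∀ m, ∃ h : H, ∀ r, r ∈ m.asIdeal ↔ h • r ∈ (rep m).asIdeal := fun m => Quotient.mk_out (s := sd) m
  have hrr : ∀ m, rep (rep m) = rep m := fun m => by
    show (Quotient.mk sd (Quotient.mk sd m).out).out = _
    rw [Quotient.out_eq]
  -- stabilisers and normal elements of the residue fields
  have hθ : ∀ m : MaximalSpectrum R, ∃ t : R, ∀ lam : H → R,
      (∀ d' : H, (∀ r, r ∈ m.asIdeal ↔ d' • r ∈ m.asIdeal) →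
        (∑ e ∈ Finset.univ.filter (fun e : H => ∀ r, r ∈ m.asIdeal ↔ e • r ∈ m.asIdeal),
          lam e * (e * d') • t) ∈ m.asIdeal) →
      ∀ e : H, (∀ r, r ∈ m.asIdeal ↔ e • r ∈ m.asIdeal) → lam e ∈ m.asIdeal := by
    intro m
    haveI := m.isMaximal
    letI : Field (R ⧸ m.asIdeal) := Ideal.Quotient.field _
    let D : Subgroup H :=
      { carrier := {h | ∀ r, r ∈ m.asIdeal ↔ h • r ∈ m.asIdeal}
        one_mem' := fun r => by rw [one_smul]
        mul_mem' := fun {x y} hx hy r => by rw [mul_smul, hy r, hx (y • r)]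
        inv_mem' := fun {x} hx r => by rw [hx (x⁻¹ • r), smul_inv_smul] }
    have hmap : ∀ d : D, m.asIdeal = m.asIdeal.map
        ((MulSemiringAction.toRingEquiv H R (d : H) : R ≃+* R) : R →+* R) := by
      intro d
      refine le_antisymm (fun r hr => ?_) (Ideal.map_le_iff_le_comap.mpr fun r hr => (d.2 r).mp hr)
      have h1 : ((d : H)⁻¹ • r) ∈ m.asIdeal := by rw [d.2, smul_inv_smul]; exact hr
      have h2 := Ideal.mem_map_of_mem ((MulSemiringAction.toRingEquiv H R (d : H) : R ≃+* R) : R →+* R) h1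
      simpa using h2
    let f : D →* RingAut (R ⧸ m.asIdeal) :=
      { toFun := fun d => Ideal.quotientEquiv _ _ (MulSemiringAction.toRingEquiv H R (d : H)) (hmap d)
        map_one' := RingEquiv.ext fun x => by
          obtain ⟨r, rfl⟩ := Ideal.Quotient.mk_surjective x
          show Ideal.Quotient.mk m.asIdeal ((1 : H) • r) = _
          rw [one_smul]; rfl
        map_mul' := fun d d' => RingEquiv.ext fun x => by
          obtain ⟨r, rfl⟩ := Ideal.Quotient.mk_surjective x
          show Ideal.Quotient.mk m.asIdeal (((d : H) * (d' : H)) • r) = _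
          rw [mul_smul]; rfl }
    have hfap : ∀ (d : D) (r : R), f d (Ideal.Quotient.mk _ r) = Ideal.Quotient.mk _ ((d : H) • r) :=
      fun d r => rfl
    have hf : Function.Injective f := by
      rw [injective_iff_map_eq_one]
      intro d hd
      by_contra hd1
      obtain ⟨r, hr⟩ := hfree d (fun h => hd1 (Subtype.ext h)) m.asIdeal m.isMaximal
      refine hr (Ideal.Quotient.eq.mp ?_)
      rw [← hfap d r, hd]
      rfl
    obtain ⟨θ, hθ⟩ := exists_normal_field f hf
    obtain ⟨t, rfl⟩ := Ideal.Quotient.mk_surjective θ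
    refine ⟨t, fun lam hlam e he => ?_⟩
    have hμ := hθ (fun e : D => Ideal.Quotient.mk _ (lam e)) fun d' => by
      have h1 := Ideal.Quotient.eq_zero_iff_mem.mpr (hlam d' d'.2)
      rw [map_sum] at h1
      rw [← h1]
      refine Finset.sum_bij (fun e _ => (e : H)) (fun e _ => Finset.mem_filter.mpr ⟨Finset.mem_univ _, e.2⟩)
        (fun e _ e' _ h => Subtype.ext h) (fun e he => ⟨⟨e, (Finset.mem_filter.mp he).2⟩, Finset.mem_univ _, rfl⟩)
        fun e _ => ?_
      rw [hfap, hfap, map_mul, mul_smul]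
    exact Ideal.Quotient.eq_zero_iff_mem.mp (congrFun hμ ⟨e, he⟩)
  choose t ht using hθ
  obtain ⟨a, ha⟩ := Ideal.pi_quotient_surjective (I := fun m : MaximalSpectrum R => m.asIdeal)
    (fun m m' hne => Ideal.isCoprime_iff_sup_eq.mpr
      (m.isMaximal.coprime_of_ne m'.isMaximal fun h => hne (MaximalSpectrum.ext h)))
    (fun m => if rep m = m then Ideal.Quotient.mk _ (t m) else 0)
  refine ⟨a, ?_⟩
  by_contra hu
  obtain ⟨M, hM, hdet⟩ := exists_max_ideal_of_mem_nonunits hu
  haveI := hM
  letI : Field (R ⧸ M) := Ideal.Quotient.field _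
  set q := Ideal.Quotient.mk M
  have h0 : ((Matrix.of fun g c : H => (g * c) • a).map q).det = 0 := by
    rw [← RingHom.mapMatrix_apply, ← RingHom.map_det]
    exact Ideal.Quotient.eq_zero_iff_mem.mpr hdet
  obtain ⟨v, hv, hvM⟩ := Matrix.exists_vecMul_eq_zero_iff.mpr h0
  apply hv
  funext g₀
  choose lam hlam using fun g => Ideal.Quotient.mk_surjective (v g)
  rw [← hlam g₀, Pi.zero_apply, Ideal.Quotient.eq_zero_iff_mem]
  -- transport to the chosen representative
  obtain ⟨h, hh⟩ := hrep ⟨M, hM⟩
  set m₀ := rep ⟨M, hM⟩ with hm₀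
  have hm₀r : rep m₀ = m₀ := hrr _
  have hsum : ∀ c : H, (∑ g, (h • lam g) * (h * g * c) • a) ∈ m₀.asIdeal := by
    intro c
    have h1 : (∑ g, lam g * (g * c) • a) ∈ M := by
      rw [← Ideal.Quotient.eq_zero_iff_mem, map_sum]
      have := congrFun hvM c
      simp only [Matrix.vecMul, dotProduct, Matrix.map_apply, Matrix.of_apply, Pi.zero_apply] at this
      rw [← this]
      exact Finset.sum_congr rfl fun g _ => by rw [map_mul, hlam]
    have h2 := (hh _).mp h1
    rw [Finset.smul_sum] at h2
    simpa only [smul_mul', smul_smul, mul_assoc] using h2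
  have hout : ∀ x : H, ¬ (∀ r, r ∈ m₀.asIdeal ↔ x • r ∈ m₀.asIdeal) → x • a ∈ m₀.asIdeal := by
    intro x hx
    let m₁ : MaximalSpectrum R :=
      ⟨m₀.asIdeal.comap ((MulSemiringAction.toRingEquiv H R x : R ≃+* R) : R →+* R),
        Ideal.comap_isMaximal_of_surjective _ (MulSemiringAction.toRingEquiv H R x).surjective (H := m₀.isMaximal)⟩
    have hm₁ : ∀ r, r ∈ m₁.asIdeal ↔ x • r ∈ m₀.asIdeal := fun r => Iff.rfl
    have hrel : rep m₁ = rep m₀ := congrArg Quotient.out (Quotient.sound (s := sd) ⟨x, hm₁⟩).symm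
    have hne : ¬ rep m₁ = m₁ := by
      intro e
      rw [hrel, hm₀r] at e
      refine hx fun r => ?_
      rw [← hm₁ r, ← e]
    have := ha m₁
    rw [if_neg hne, Ideal.Quotient.eq_zero_iff_mem] at this
    exact (hm₁ a).mp this
  have hat : a - t m₀ ∈ m₀.asIdeal := by
    have := ha m₀
    rw [if_pos hm₀r] at this
    exact Ideal.Quotient.eq.mp this
  refine (hh _).mpr ?_
  have key := ht m₀ (fun e => h • lam (h⁻¹ * e * (h * g₀))) (fun d' hd' => ?_) 1 (fun r => by rw [one_smul])
  · simpa [mul_assoc] using key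
  have hs := hsum ((h * g₀)⁻¹ * d')
  rw [← Finset.sum_filter_add_sum_filter_not Finset.univ
    (fun g => ∀ r, r ∈ m₀.asIdeal ↔ (h * g * ((h * g₀)⁻¹ * d')) • r ∈ m₀.asIdeal)] at hs
  have hrest : (∑ g ∈ Finset.univ.filter (fun g => ¬ ∀ r, r ∈ m₀.asIdeal ↔
      (h * g * ((h * g₀)⁻¹ * d')) • r ∈ m₀.asIdeal),
      (h • lam g) * (h * g * ((h * g₀)⁻¹ * d')) • a) ∈ m₀.asIdeal :=
    Ideal.sum_mem _ fun g hg => Ideal.mul_mem_left _ _ (hout _ (Finset.mem_filter.mp hg).2)
  have hmain := (Ideal.add_mem_iff_left _ hrest).mp hs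
  -- replace `a` by `t m₀` on the stabiliser
  have hrep' : (∑ g ∈ Finset.univ.filter (fun g => ∀ r, r ∈ m₀.asIdeal ↔
      (h * g * ((h * g₀)⁻¹ * d')) • r ∈ m₀.asIdeal),
      (h • lam g) * (h * g * ((h * g₀)⁻¹ * d')) • t m₀) ∈ m₀.asIdeal := by
    have hdiff : (∑ g ∈ Finset.univ.filter (fun g => ∀ r, r ∈ m₀.asIdeal ↔
        (h * g * ((h * g₀)⁻¹ * d')) • r ∈ m₀.asIdeal),
        (h • lam g) * (h * g * ((h * g₀)⁻¹ * d')) • (a - t m₀)) ∈ m₀.asIdeal :=
      Ideal.sum_mem _ fun g hg => Ideal.mul_mem_left _ _ (((Finset.mem_filter.mp hg).2 _).mp hat)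
    simp only [smul_sub, mul_sub, Finset.sum_sub_distrib] at hdiff
    have := m₀.asIdeal.sub_mem hmain hdiff
    rwa [sub_sub_cancel] at this
  convert hrep' using 1
  have hd : ∀ x : H, (∀ r, r ∈ m₀.asIdeal ↔ (x * d') • r ∈ m₀.asIdeal) ↔
      (∀ r, r ∈ m₀.asIdeal ↔ x • r ∈ m₀.asIdeal) := by
    intro x
    constructor
    · intro hx r
      have := hx (d'⁻¹ • r)
      rw [mul_smul, smul_inv_smul] at this
      rw [← this, hd' (d'⁻¹ • r), smul_inv_smul]
    · intro hx r
      rw [mul_smul, hd' r, hx (d' • r)]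
  refine Finset.sum_bij (fun e _ => h⁻¹ * e * (h * g₀)) (fun e he => ?_)
    (fun e _ e' _ hee => mul_left_cancel (mul_right_cancel hee)) (fun g hg => ?_) fun e _ => ?_
  · rw [Finset.mem_filter] at he ⊢
    refine ⟨Finset.mem_univ _, ?_⟩
    rw [show h * (h⁻¹ * e * (h * g₀)) * ((h * g₀)⁻¹ * d') = e * d' by group, hd]
    exact he.2
  · rw [Finset.mem_filter] at hg
    refine ⟨h * g * (h * g₀)⁻¹, Finset.mem_filter.mpr ⟨Finset.mem_univ _, ?_⟩, by group⟩
    rw [← hd, show h * g * (h * g₀)⁻¹ * d' = h * g * ((h * g₀)⁻¹ * d') by group]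
    exact hg.2
  · rw [show h * (h⁻¹ * e * (h * g₀)) * ((h * g₀)⁻¹ * d') = e * d' by group]

/-- `V` is free over the group acting by `τ`: some subspace has its translates as a direct sum
decomposition. -/
def HasFree {k H V : Type*} [Field k] [AddCommGroup V] [Module k V] [Group H] [Fintype H]
    (τ : H →* Module.End k V) : Prop :=
  ∃ W : Submodule k V, ∀ v : V, ∃! f : H → V, (∀ c, f c ∈ W) ∧ ∑ c, τ c (f c) = v

/-- A semilinear module over an algebra with a normal element is free over the group. -/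
theorem free_of_normal {k H V R : Type*} [Field k] [AddCommGroup V] [Module k V] [Group H] [Fintype H]
    [DecidableEq H] [CommRing R] [MulSemiringAction H R] (φ : R →+* Module.End k V)
    (τ : H →* Module.End k V) (heq : ∀ h r v, τ h (φ r v) = φ (h • r) (τ h v))
    {a : R} (hu : IsUnit (Matrix.of fun g c : H => (g * c) • a).det) : HasFree τ := by
  set M : Matrix H H R := Matrix.of fun g c : H => (g * c) • a with hM
  set N : Matrix H H R := M⁻¹
  let app : Matrix H H R → (H → V) → (H → V) := fun X w g => ∑ c, φ (X g c) (w c)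
  have happ : ∀ X Y w, app (X * Y) w = app X (app Y w) := by
    intro X Y w
    funext g
    simp only [app, Matrix.mul_apply, map_sum, LinearMap.sum_apply, map_mul, Module.End.mul_apply]
    exact Finset.sum_comm
  have happ1 : ∀ w, app 1 w = w := by
    intro w
    funext g
    show ∑ c, φ ((1 : Matrix H H R) g c) (w c) = w g
    rw [Finset.sum_eq_single g (fun c _ hc => by simp [Matrix.one_apply_ne' hc]) (by simp)]
    simp
  have hMg : ∀ w : H → V, (∀ h c, τ h (w c) = w c) → ∀ g : H,
      app M w g = τ g (∑ c, τ c (φ a (w c))) := by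
    intro w hw g
    rw [map_sum]
    refine Finset.sum_congr rfl fun c _ => ?_
    rw [heq c, heq g, hw, hw, hM, Matrix.of_apply, mul_smul]
  refine ⟨(⨅ h : H, LinearMap.ker (τ h - 1)).map (φ a), fun v => ?_⟩
  have hfix : ∀ x : V, x ∈ (⨅ h : H, LinearMap.ker (τ h - 1)) ↔ ∀ h, τ h x = x := fun x => by
    simp [Submodule.mem_iInf, sub_eq_zero]
  set u : H → V := fun g => τ g v
  set w := app N u with hwdef
  have hMw : app M w = u := by rw [hwdef, ← happ, Matrix.mul_nonsing_inv M hu, happ1]
  have hinv : ∀ h c, τ h (w c) = w c := by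
    intro h
    suffices hh : app M (fun c => τ h (w c)) = u by
      intro c
      have := congrArg (app N) hh
      rw [← happ, Matrix.nonsing_inv_mul M hu, happ1] at this
      exact congrFun this c
    funext g
    have h1 := congrArg (τ h) (congrFun hMw (h⁻¹ * g))
    simp only [app, map_sum, u] at h1 ⊢
    rw [← Module.End.mul_apply, ← map_mul, mul_inv_cancel_left] at h1
    rw [← h1]
    refine Finset.sum_congr rfl fun c _ => ?_
    rw [heq, hM, Matrix.of_apply, Matrix.of_apply, smul_smul, ← mul_assoc, mul_inv_cancel_left]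
  refine ⟨fun c => φ a (w c), ⟨fun c => Submodule.mem_map_of_mem ((hfix _).mpr fun h => hinv h c), ?_⟩, ?_⟩
  · have h1 := congrFun hMw 1
    rw [hMg w hinv 1, map_one] at h1
    simpa [u] using h1
  · rintro f ⟨hfW, hfv⟩
    choose w' hw' hw'e using hfW
    have hinv' : ∀ h c, τ h (w' c) = w' c := fun h c => (hfix _).mp (hw' c) h
    have hMw' : app M w' = u := by
      funext g
      rw [hMg w' hinv' g]
      simp only [hw'e, hfv, u]
    funext c
    rw [← hw'e c, hwdef, ← hMw', ← happ, Matrix.nonsing_inv_mul M hu, happ1]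

end Cfsg.Agent.FrobFree
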